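import Mathlib
import Cfsg.Agent.Lib.Helper12.OElmE.Defs
import Cfsg.Agent.Lib.Helper13.OElm.EmbM
import Cfsg.Agent.Lib.Helper99.NsPlus

/-!
# Project OELM (S5990), regime [R2E]: package [NECELTM]

Characteristic 2, `k` even: the involution `y = [[1, A], [0, 1]]` of `Ω⁺_{2k}` (helper99's
`nsp_witness_two`), extended by the identity on the anisotropic plane, is an element of `Ω⁻` of
a-type all of whose nondegenerate fixed subspaces have dimension at most 2.
-/

set_option autoImplicit false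
open scoped MatrixGroups
open Matrix

namespace Cfsg.Agent.Lib.Helper46.OElmE

open Cfsg.Agent.Lib.Helper23.OHyp Cfsg.Agent.Lib.Helper44.OElp Cfsg.Agent.Lib.Helper64.OParM
open Cfsg.Agent.Lib.Helper58.OElm Cfsg.Agent.Lib.Helper12.PHyp Cfsg.Agent.Lib.Helper12.OElmE
open Cfsg.Agent.Lib.Helper13.OElm

universe u

section

variable {F : Type u} [Field F] {k : ℕ}

/-- `embHom` maps isometries of the plus form to isometries of the minus form. -/
theorem embHom_mem_isometryGroup (a b : F) (y : GL (Fin k ⊕ Fin k) F)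
    (hy : y ∈ Cfsg.isometryGroup F (Cfsg.quadFormPlus k F)) :
    embHom F k y ∈ Cfsg.isometryGroup F (Cfsg.quadFormMinus k F a b) := by
  intro u _
  show Cfsg.quadFormMinus k F a b (((embHom F k y : GL (MI k) F) : Matrix (MI k) (MI k) F) *ᵥ u)
    = Cfsg.quadFormMinus k F a b u
  have hu : u = Sum.elim (u ∘ Sum.inl) (u ∘ Sum.inr) := by
    ext (i | i) <;> rfl
  rw [embHom_mulVec, quadFormMinus_elim]
  conv_rhs => rw [hu, quadFormMinus_elim]
  have h1 : Cfsg.quadFormPlus k F
      ((y : Matrix (Fin k ⊕ Fin k) (Fin k ⊕ Fin k) F) *ᵥ (u ∘ Sum.inl))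
      = Cfsg.quadFormPlus k F (u ∘ Sum.inl) := hy (u ∘ Sum.inl) (u ∘ Sum.inl)
  rw [h1]

/-- The induced homomorphism `O⁺ → O⁻`. -/
noncomputable def embIso (a b : F) :
    ↥(Cfsg.isometryGroup F (Cfsg.quadFormPlus k F)) →*
      ↥(Cfsg.isometryGroup F (Cfsg.quadFormMinus k F a b)) :=
  { toFun := fun g => ⟨embHom F k (g : GL (Fin k ⊕ Fin k) F),
      embHom_mem_isometryGroup a b (g : GL (Fin k ⊕ Fin k) F) g.2⟩
    map_one' := Subtype.ext (map_one (embHom F k))
    map_mul' := fun g h => Subtype.ext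
      (map_mul (embHom F k) (g : GL (Fin k ⊕ Fin k) F) (h : GL (Fin k ⊕ Fin k) F)) }

/-- `embHom` maps `Ω⁺` into `Ω⁻`. -/
theorem embHom_mem_omegaGL (a b : F) (y : GL (Fin k ⊕ Fin k) F)
    (hy : y ∈ Cfsg.Geo.omegaGL (Cfsg.quadFormPlus k F)) :
    embHom F k y ∈ Cfsg.Geo.omegaGL (Cfsg.quadFormMinus k F a b) := by
  have hy' : y ∈ (Cfsg.Omega F (Cfsg.quadFormPlus k F)).map
      (Cfsg.isometryGroup F (Cfsg.quadFormPlus k F)).subtype := hy
  obtain ⟨g, hg, rfl⟩ := Subgroup.mem_map.mp hy'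
  have h1 : (commutator ↥(Cfsg.isometryGroup F (Cfsg.quadFormPlus k F))).map (embIso a b) ≤
      commutator ↥(Cfsg.isometryGroup F (Cfsg.quadFormMinus k F a b)) := by
    rw [commutator_def, Subgroup.map_commutator, commutator_def]
    exact Subgroup.commutator_mono le_top le_top
  have h2 : embIso a b g ∈ commutator ↥(Cfsg.isometryGroup F (Cfsg.quadFormMinus k F a b)) :=
    h1 (Subgroup.mem_map_of_mem _ hg)
  show embHom F k _ ∈ (Cfsg.Omega F (Cfsg.quadFormMinus k F a b)).map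
      (Cfsg.isometryGroup F (Cfsg.quadFormMinus k F a b)).subtype
  exact Subgroup.mem_map.mpr ⟨embIso a b g, h2, rfl⟩

/-- The polar form of the minus form on a pair with singular hyperbolic parts, the second vector
having no anisotropic part. -/
theorem polar_minus_elim_zero (a b : F) (p p' : Fin k ⊕ Fin k → F) (z : Fin 2 → F)
    (h1 : Cfsg.quadFormPlus k F (p + p') = 0) (h2 : Cfsg.quadFormPlus k F p = 0)
    (h3 : Cfsg.quadFormPlus k F p' = 0) :
    QuadraticMap.polar (Cfsg.quadFormMinus k F a b) (Sum.elim p z) (Sum.elim p' 0) = 0 := by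
  unfold QuadraticMap.polar
  have hs : (Sum.elim p z : MI k → F) + Sum.elim p' 0 = Sum.elim (p + p') z := by
    ext (i | i) <;> simp
  rw [hs, quadFormMinus_elim, quadFormMinus_elim, quadFormMinus_elim, h1, h2, h3]
  simp only [Pi.zero_apply]
  ring

/-- A fixed vector of `embHom y` has a `y`-fixed hyperbolic part. -/
theorem fix_inl {y : GL (Fin k ⊕ Fin k) F} {u : MI k → F}
    (hu : u ∈ fixSp ((embHom F k y : GL (MI k) F) : Matrix (MI k) (MI k) F)) :
    (y : Matrix (Fin k ⊕ Fin k) (Fin k ⊕ Fin k) F) *ᵥ (u ∘ Sum.inl) = u ∘ Sum.inl := by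
  rw [fixSp_mem, embHom_mulVec] at hu
  have h := congrArg (fun f : MI k → F => f ∘ Sum.inl) hu
  simpa using h

end

/-- **[NECELTM]** -/
theorem pkgNecEltM : PkgNecEltM.{u} := by
  intro F _ _ h2 k a b hab hk hev
  classical
  obtain ⟨y, hyΩ, hy2, hyiso, hyfix⟩ :=
    Cfsg.Agent.Lib.Helper99.nsp_witness_two h2 k (by omega) hev
  have hyy : (y : Matrix (Fin k ⊕ Fin k) (Fin k ⊕ Fin k) F) *
      (y : Matrix (Fin k ⊕ Fin k) (Fin k ⊕ Fin k) F) = 1 := by
    rw [Units.val_pow_eq_pow_val, pow_two] at hy2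
    exact hy2
  have hyI : y ∈ Cfsg.isometryGroup F (Cfsg.quadFormPlus k F) := fun u _ => hyiso u
  have hxI := embHom_mem_isometryGroup a b y hyI
  have hxiso : ∀ v, Cfsg.quadFormMinus k F a b
      (((embHom F k y : GL (MI k) F) : Matrix (MI k) (MI k) F) *ᵥ v) =
      Cfsg.quadFormMinus k F a b v := fun v => hxI v v
  have hQQ : ∀ c : F, c + c = 0 := fun c => by rw [← two_mul, h2, zero_mul]
  refine ⟨embHom F k y, embHom_mem_omegaGL a b y hyΩ, ?_, ?_, ?_, ?_⟩
  · -- `x * x = 1`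
    have h1 : y * y = 1 := Units.ext hyy
    rw [← Units.val_mul, ← map_mul, h1, map_one]
    rfl
  · -- `x ≠ 1`
    intro h1
    have hy1 : y = 1 := embHom_injective (by rw [h1, map_one])
    have h0 : 0 < k := by omega
    obtain ⟨v, hv⟩ : ∃ v : Fin k ⊕ Fin k → F, v = fun i =>
        Sum.elim (fun j : Fin k => if j = ⟨0, h0⟩ then (1 : F) else 0)
          (fun j : Fin k => if j = ⟨0, h0⟩ then (1 : F) else 0) i := ⟨_, rfl⟩
    have h3 := hyfix v (by rw [hy1]; simp)
    have hq : Cfsg.quadFormPlus k F v = 1 := by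
      unfold Cfsg.quadFormPlus
      rw [hv]
      simp
    rw [hq] at h3
    exact one_ne_zero h3
  · -- a-type
    intro v _
    unfold QuadraticMap.polar
    have hsum : v + ((embHom F k y : GL (MI k) F) : Matrix (MI k) (MI k) F) *ᵥ v =
        Sum.elim (v ∘ Sum.inl +
          (y : Matrix (Fin k ⊕ Fin k) (Fin k ⊕ Fin k) F) *ᵥ (v ∘ Sum.inl)) 0 := by
      rw [embHom_mulVec]
      ext (i | i)
      · simp
      · simp only [Pi.add_apply, Sum.elim_inr, Function.comp_apply, Pi.zero_apply]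
        exact hQQ _
    have hfixed : (y : Matrix (Fin k ⊕ Fin k) (Fin k ⊕ Fin k) F) *ᵥ
        (v ∘ Sum.inl + (y : Matrix (Fin k ⊕ Fin k) (Fin k ⊕ Fin k) F) *ᵥ (v ∘ Sum.inl)) =
        v ∘ Sum.inl + (y : Matrix (Fin k ⊕ Fin k) (Fin k ⊕ Fin k) F) *ᵥ (v ∘ Sum.inl) := by
      rw [Matrix.mulVec_add, Matrix.mulVec_mulVec, hyy, Matrix.one_mulVec, add_comm]
    rw [hsum, quadFormMinus_elim, hyfix _ hfixed, hxiso]
    have h4 := hQQ (Cfsg.quadFormMinus k F a b v)
    simp only [Pi.zero_apply]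
    linear_combination -h4
  · -- nondegenerate subspaces of the fixed space have dimension at most 2
    intro W' hW' hNd
    let π : ↥W' →ₗ[F] (Fin 2 → F) := (LinearMap.funLeft F F Sum.inr).comp W'.subtype
    have hπ : Function.Injective π := by
      rw [← LinearMap.ker_eq_bot, LinearMap.ker_eq_bot']
      intro w hw
      by_contra hne
      have hw0 : (w : MI k → F) ≠ 0 := fun h => hne (Subtype.ext h)
      have hwr : (w : MI k → F) ∘ Sum.inr = 0 := hw
      obtain ⟨⟨u, huW, hu⟩, -⟩ := hNd w w.2 hw0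
      apply hu
      have hu1 := fix_inl (hW' huW)
      have hw1 := fix_inl (hW' w.2)
      have hu' : u = Sum.elim (u ∘ Sum.inl) (u ∘ Sum.inr) := by
        ext (i | i) <;> rfl
      have hw' : (w : MI k → F) = Sum.elim ((w : MI k → F) ∘ Sum.inl) 0 := by
        ext (i | i)
        · rfl
        · exact congrFun hwr i
      have key := polar_minus_elim_zero a b (u ∘ Sum.inl) ((w : MI k → F) ∘ Sum.inl)
        (u ∘ Sum.inr) (hyfix _ (by rw [Matrix.mulVec_add, hu1, hw1])) (hyfix _ hu1)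
        (hyfix _ hw1)
      rwa [← hu', ← hw'] at key
    have h1 := LinearMap.finrank_le_finrank_of_injective hπ
    simpa using h1

end Cfsg.Agent.Lib.Helper46.OElmE
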